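import Mathlib
import Cfsg.Agent.TcChain36.Out.Fi23.Syl
import Cfsg.Agent.Lib.SylEA36

set_option autoImplicit false
set_option maxRecDepth 1000000
set_option linter.all false

namespace Cfsg.Agent.TcChain36.EA23

open Cfsg.Agent.Lib.OutTree36 Cfsg.Agent.TcChain36.Out.Fi23

set_option Elab.async false in
theorem hchk : chkEA (fun i v => DD.linK i 11 v) 11 7 = true := by decide +kernel

end Cfsg.Agent.TcChain36.EA23
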